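import Groth.Agent.H1SkDual.Basic
import Groth.Agent.S0369
import Groth.Agent.LC.DepthLoc
import Groth.Agent.H1FiniteInv.Basic
import Groth.Prelude.Def_EGA4b

/-!
# Dualizing complexes that are modules off a small closed set are ordinary
-/

set_option autoImplicit false
set_option linter.unusedSectionVars false
set_option backward.isDefEq.respectTransparency false

universe u v

open CategoryTheory

attribute [local instance] HasDerivedCategory.standard

namespace Groth.Agent.H1OrdDual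

variable {A : Type u} [CommRing A] [IsNoetherianRing A]

theorem hasSk_congr {M N : Type u} [AddCommGroup M] [Module A M] [AddCommGroup N] [Module A N]
    [Module.Finite A M] [Module.Finite A N]
    (e : M ≃ₗ[A] N) (k : ℕ) (h : LocCoh.HasSk k A M) : LocCoh.HasSk k A N := fun p _ => by
  let e' : LocalizedModule p.primeCompl M ≃ₗ[Localization.AtPrime p] LocalizedModule p.primeCompl N :=
    LinearEquiv.ofBijective (LocalizedModule.map p.primeCompl e.toLinearMap)
      ⟨LocalizedModule.map_injective _ _ e.injective, LocalizedModule.map_surjective _ _ e.surjective⟩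
  haveI : Module.Finite (Localization.AtPrime p) (LocalizedModule p.primeCompl M) :=
    Module.Finite.of_isLocalizedModule p.primeCompl (LocalizedModule.mkLinearMap p.primeCompl M)
  haveI : Module.Finite (Localization.AtPrime p) (LocalizedModule p.primeCompl N) :=
    Module.Finite.of_isLocalizedModule p.primeCompl (LocalizedModule.mkLinearMap p.primeCompl N)
  have h1 := h p
  rw [Module.supportDim_eq_of_equiv e'] at h1
  unfold LocCoh.depth at h1 ⊢
  rwa [LC.idealDepth_congr _ e'] at h1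

theorem subsingleton_of_localized_closed [IsLocalRing A] (M : Type v) [AddCommGroup M] [Module A M]
    [Subsingleton (LocalizedModule (IsLocalRing.closedPoint A).asIdeal.primeCompl M)] : Subsingleton M := by
  refine subsingleton_of_forall_eq 0 fun x => ?_
  obtain ⟨⟨s, hs⟩, hsx⟩ := (LocalizedModule.mk_eq (m := x) (m' := 0)
    (s := (1 : (IsLocalRing.closedPoint A).asIdeal.primeCompl)) (s' := 1)).1 (Subsingleton.elim _ _)
  simp only [one_smul, smul_zero, Submonoid.smul_def] at hsx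
  have hu : IsUnit s := IsLocalRing.notMem_maximalIdeal.1 hs
  exact hu.smul_eq_zero.1 hsx

variable [IsLocalRing A] {ω : Dual.D A} (hω : Dual.IsDualizing A ω) (n : ℕ) (hd : ringKrullDim A = n)

include hω hd

/-- A dualizing complex which sits in degree zero at every minimal prime is ordinary. -/
theorem ordinary (h0 : ∀ q : PrimeSpectrum A, q.asIdeal ∈ minimalPrimes A →
      ∀ i : ℤ, i ≠ 0 → q ∉ Module.support A (Dual.HD A ω i)) :
    EGA4.IsEquidim A ∧ Dual.IsNormalized A (ω⟦(n : ℤ)⟧) ∧ LocCoh.HasSk 2 A (Dual.HD A ω 0) ∧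
      Module.support A (Dual.HD A ω 0) = Set.univ := by
  obtain ⟨ν, hdeg, hcov, hmono, -⟩ := KFlatLib.exists_extDegree hω
  let m := IsLocalRing.closedPoint A
  have hν0 : ∀ q : PrimeSpectrum A, q.asIdeal ∈ minimalPrimes A → ν q = 0 := fun q hq => by
    obtain ⟨ω', h1, h2, h3⟩ := PerfGen7.LocalizeDual.exists_local hω hdeg q
    haveI : Module.Finite (Localization.AtPrime q.asIdeal) (LocalizedModule q.asIdeal.primeCompl A) :=
      Module.Finite.of_isLocalizedModule q.asIdeal.primeCompl (LocalizedModule.mkLinearMap _ A)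
    have hz : Module.supportDim (Localization.AtPrime q.asIdeal) (LocalizedModule q.asIdeal.primeCompl A) =
        ((0 : ℕ) : WithBot ℕ∞) := by
      rw [Module.supportDim_eq_of_equiv (LC.selfLoc q.asIdeal.primeCompl), Module.supportDim_self_eq_ringKrullDim,
        IsLocalization.AtPrime.ringKrullDim_eq_height q.asIdeal, Ideal.height_eq_zero_iff.2 hq]
      rfl
    obtain ⟨c⟩ := h3 A (-((0 : ℕ) : ℤ))
    rw [show ν q + -((0 : ℕ) : ℤ) = ν q by simp] at c
    obtain ⟨e⟩ := KFlatLib.exists_homRingLEquiv ω (ν q)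
    by_contra hne
    refine h0 q hq (ν q) hne ?_
    rw [← e.support_eq]
    exact Module.mem_support_iff.2 (c.toEquiv.nontrivial_congr.1 (H1SkDual.top_nontrivial h1 h2 _ _ hz))
  have hmin : ∀ p : PrimeSpectrum A, ∃ q : PrimeSpectrum A, q.asIdeal ∈ minimalPrimes A ∧ q ≤ p ∧ ν q = 0 :=
    fun p => by
      obtain ⟨q, hq, hqp⟩ := Ideal.exists_minimalPrimes_le (bot_le : (⊥ : Ideal A) ≤ p.asIdeal)
      exact ⟨⟨q, hq.1.1⟩, hq, hqp, hν0 _ hq⟩
  have hge : ∀ p, 0 ≤ ν p := fun p => by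
    obtain ⟨q, -, h1, h2⟩ := hmin p
    exact h2 ▸ hmono.monotone h1
  have hνm : ν m = n := by
    obtain ⟨q, hq, -, hq0⟩ := hmin m
    obtain ⟨e, he, he'⟩ := KFlatLib.ringKrullDim_quotient_eq hcov hmono q
    have h1 := ringKrullDim_quotient_le q.asIdeal
    rw [he, hd] at h1
    have h2 : e ≤ n := Nat.cast_le.1 h1
    obtain ⟨s, hs⟩ := Order.le_krullDim_iff.1 (show (n : WithBot ℕ∞) ≤ Order.krullDim (PrimeSpectrum A) from hd.ge)
    have hgrow : ∀ (i : ℕ) (hi : i < s.length + 1), ν s.head + i ≤ ν (s ⟨i, hi⟩) := by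
      intro i
      induction i with
      | zero => intro hi; simp [RelSeries.head]
      | succ i ih =>
        intro hi
        have h4 := ih (by omega)
        have h3 := hmono (show s ⟨i, by omega⟩ < s ⟨i + 1, hi⟩ from s.step ⟨i, by omega⟩)
        push_cast
        omega
    have h5 := hgrow s.length (by omega)
    have h6 := hmono.monotone (show s ⟨s.length, by omega⟩ ≤ m from
      IsLocalRing.le_maximalIdeal (s ⟨s.length, by omega⟩).isPrime.ne_top)
    have h7 := hge s.head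
    change (e : ℤ) = ν m - ν q at he'
    omega
  have hnorm : Dual.IsNormalized A (ω⟦(n : ℤ)⟧) := fun i hi => by
    haveI : Subsingleton (LocalizedModule m.asIdeal.primeCompl (Dual.inD A (A ⧸ m.asIdeal) ⟶ ω⟦(n : ℤ) + i⟧)) :=
      not_nontrivial_iff_subsingleton.1 fun h => hi (by have := (hdeg m _).1 h; omega)
    haveI : Subsingleton (Dual.inD A (IsLocalRing.ResidueField A) ⟶ ω⟦(n : ℤ) + i⟧) :=
      subsingleton_of_localized_closed (A := A) (Dual.inD A (A ⧸ m.asIdeal) ⟶ ω⟦(n : ℤ) + i⟧)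
    exact (Linear.homCongr A (Iso.refl (Dual.inD A (IsLocalRing.ResidueField A)))
      ((shiftFunctorAdd' (Dual.D A) (n : ℤ) i ((n : ℤ) + i) rfl).app ω).symm).toEquiv.subsingleton
  have hEq : EGA4.IsEquidim A := fun q hq => by
    obtain ⟨e, he, he'⟩ := KFlatLib.ringKrullDim_quotient_eq hcov hmono ⟨q, hq.1.1⟩
    have := hν0 ⟨q, hq.1.1⟩ hq
    change (e : ℤ) = ν m - ν ⟨q, hq.1.1⟩ at he'
    change ringKrullDim (A ⧸ q) = (e : WithBot ℕ∞) at he
    rw [he, hd, show e = n by omega]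
  obtain ⟨hsupp, hS2⟩ := Groth.Agent.S0369.result A (ω⟦(n : ℤ)⟧) (KFlatLib.isDualizing_shift hω (n : ℤ)) hnorm n hd
  obtain ⟨e1⟩ := KFlatLib.exists_homRingLEquiv (ω⟦(n : ℤ)⟧) (-(n : ℤ))
  obtain ⟨e2⟩ := KFlatLib.exists_homRingLEquiv ω 0
  let e3 : (Dual.inD A A ⟶ (ω⟦(n : ℤ)⟧)⟦-(n : ℤ)⟧) ≃ₗ[A] (Dual.inD A A ⟶ ω⟦(0 : ℤ)⟧) :=
    Linear.homCongr A (Iso.refl _) ((shiftFunctorAdd' (Dual.D A) (n : ℤ) (-(n : ℤ)) 0 (by omega)).app ω).symm
  let e : Dual.HD A (ω⟦(n : ℤ)⟧) (-(n : ℤ)) ≃ₗ[A] Dual.HD A ω 0 := e1.symm.trans (e3.trans e2)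
  haveI := (KFlatLib.isDualizing_shift hω (n : ℤ)).finite_cohomology (-(n : ℤ))
  haveI := hω.finite_cohomology 0
  refine ⟨hEq, hnorm, hasSk_congr e 2 hS2, ?_⟩
  rw [← e.support_eq, hsupp]
  refine Set.eq_univ_of_forall fun p => ?_
  obtain ⟨q, hq, hqp⟩ := Ideal.exists_minimalPrimes_le (bot_le : (⊥ : Ideal A) ≤ p.asIdeal)
  exact ⟨q, hq, hqp, (hEq q hq).trans hd⟩

theorem two_le_idealDepth (J : Ideal A) (hJ : 2 ≤ J.height) (hfin : Module.Finite A (Dual.HD A ω 0))
    (hS : LocCoh.HasSk 2 A (Dual.HD A ω 0)) (hsupp : Module.support A (Dual.HD A ω 0) = Set.univ) :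
    2 ≤ LocCoh.idealDepth J (Dual.HD A ω 0) := by
  rw [LC.idealDepth_eq_iInf_depth]
  refine le_iInf₂ fun p hp => ?_
  have h1 := hS p.asIdeal
  have h2 : (2 : WithBot ℕ∞) ≤ Module.supportDim (Localization.AtPrime p.asIdeal)
      (LocalizedModule p.asIdeal.primeCompl (Dual.HD A ω 0)) := by
    rw [H1FiniteInv.supportDim_localized (Dual.HD A ω 0) p, hsupp]
    refine le_trans (WithBot.coe_le_coe.2 (hJ.trans (Ideal.height_mono hp))) ?_
    rw [PrimeSpectrum.height_eq_orderHeight, Order.height_eq_krullDim_Iic]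
    exact Order.krullDim_le_of_strictMono (fun t => ⟨t.1, t.2, Set.mem_univ _⟩) fun _ _ h => h
  have h3 : ((2 : ℕ∞) : WithBot ℕ∞) ≤ ((LocCoh.depth (Localization.AtPrime p.asIdeal)
      (LocalizedModule p.asIdeal.primeCompl (Dual.HD A ω 0)) : ℕ∞) : WithBot ℕ∞) :=
    (le_min (by exact_mod_cast le_rfl) h2).trans h1
  exact WithBot.coe_le_coe.1 h3

end Groth.Agent.H1OrdDual
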