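import Groth.Agent.H1OrdDual.Equidim
import Groth.Agent.H9Misc.TFactor

/-!
# Endomorphisms and self-extensions of the dualizing module under `S₂` and `S₃`
-/

set_option autoImplicit false
set_option linter.unusedSectionVars false
set_option backward.isDefEq.respectTransparency false

universe u

open CategoryTheory CategoryTheory.Limits Pretriangulated DerivedCategory

attribute [local instance] HasDerivedCategory.standard

namespace Groth.Agent.H1OrdDual

variable {A : Type u} [CommRing A]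


/-- A complex concentrated in one degree is a shifted module. -/
theorem exists_iso_shift_inD (X : Dual.D A) (a : ℤ) [X.IsGE a] [X.IsLE a] (M : ModuleCat.{u} A)
    (eM : (DerivedCategory.homologyFunctor (ModuleCat.{u} A) a).obj X ≅ M) (b : ℤ) (hb : b + a = 0) :
    Nonempty (X ≅ ((DerivedCategory.singleFunctor (ModuleCat.{u} A) 0).obj M)⟦b⟧) := by
  obtain ⟨N, ⟨e⟩⟩ := DerivedCategory.exists_iso_singleFunctor_obj_of_isGE_of_isLE X a
  let eN : N ≅ M := ((singleFunctorCompHomologyFunctorIso (ModuleCat.{u} A) a).app N).symm ≪≫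
    (DerivedCategory.homologyFunctor (ModuleCat.{u} A) a).mapIso e.symm ≪≫ eM
  exact ⟨e ≪≫ (DerivedCategory.singleFunctor (ModuleCat.{u} A) a).mapIso eN ≪≫
    (((DerivedCategory.singleFunctors (ModuleCat.{u} A)).shiftIso b a 0 (by omega)).app M).symm⟩

/-- Dévissage of a vanishing along the cohomology of a bounded complex. -/
theorem subsingleton_hom_of_cohomology (Y : Dual.D A) : ∀ (m : ℕ) (X : Dual.D A) (a : ℤ),
    X.IsGE a → X.IsLE (a + m - 1) →
    (∀ i : ℤ, a ≤ i → Subsingleton ((DerivedCategory.singleFunctor (ModuleCat.{u} A) 0).obj ((DerivedCategory.homologyFunctor (ModuleCat.{u} A) i).obj X) ⟶ Y⟦i⟧)) →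
    Subsingleton (X ⟶ Y) := by
  intro m
  induction m with
  | zero =>
    intro X a hG hL _
    haveI : X.IsLE (a - 1) := by simpa using hL
    have h0 : 𝟙 X = 0 := (DerivedCategory.TStructure.t (C := ModuleCat.{u} A)).zero (𝟙 X) (a - 1) a (by omega)
    exact subsingleton_of_forall_eq 0 fun f => by rw [← Category.id_comp f, h0, zero_comp]
  | succ m ih =>
    intro X a hG hL h
    have hT := (DerivedCategory.TStructure.t (C := ModuleCat.{u} A)).triangleLTGE_distinguished (a + 1) X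
    let X₁ := ((DerivedCategory.TStructure.t (C := ModuleCat.{u} A)).truncLT (a + 1)).obj X
    let X₃ := ((DerivedCategory.TStructure.t (C := ModuleCat.{u} A)).truncGE (a + 1)).obj X
    haveI : X₁.IsLE a := (DerivedCategory.TStructure.t (C := ModuleCat.{u} A)).isLE_truncLT_obj _ _ _ (by omega)
    haveI : X₁.IsGE a := by
      rw [DerivedCategory.isGE_iff]
      intro k hk
      haveI := H9Misc.isIso_map_truncLTι (a + 1) k (by omega) X
      exact (DerivedCategory.isZero_of_isGE X a k hk).of_iso (asIso ((DerivedCategory.homologyFunctor (ModuleCat.{u} A) k).map (((DerivedCategory.TStructure.t (C := ModuleCat.{u} A)).truncLTι (a + 1)).app X)))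
    haveI : X₃.IsGE (a + 1) := (DerivedCategory.TStructure.t (C := ModuleCat.{u} A)).isGE_truncGE_obj ..
    have hL₃ : X₃.IsLE (a + 1 + m - 1) := by
      rw [DerivedCategory.isLE_iff]
      intro k hk
      haveI := H9Misc.isIso_map_truncGEπ (a + 1) k (by omega) X
      exact (DerivedCategory.isZero_of_isLE X (a + ((m + 1 : ℕ) : ℤ) - 1) k (by push_cast; omega)).of_iso
        (asIso ((DerivedCategory.homologyFunctor (ModuleCat.{u} A) k).map (((DerivedCategory.TStructure.t (C := ModuleCat.{u} A)).truncGEπ (a + 1)).app X))).symm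
    haveI h3 : Subsingleton (X₃ ⟶ Y) := ih X₃ (a + 1) inferInstance hL₃ fun i hi => by
      have hh := h i (by omega)
      haveI := H9Misc.isIso_map_truncGEπ (a + 1) i hi X
      exact @Equiv.subsingleton _ _ (((DerivedCategory.singleFunctor (ModuleCat.{u} A) 0).mapIso
        (asIso ((DerivedCategory.homologyFunctor (ModuleCat.{u} A) i).map (((DerivedCategory.TStructure.t (C := ModuleCat.{u} A)).truncGEπ (a + 1)).app X))).symm).homFromEquiv (Z := Y⟦i⟧)) hh
    haveI h1 : Subsingleton (X₁ ⟶ Y) := by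
      haveI := H9Misc.isIso_map_truncLTι (a + 1) a (by omega) X
      obtain ⟨e⟩ := exists_iso_shift_inD X₁ a ((DerivedCategory.homologyFunctor (ModuleCat.{u} A) a).obj X) (asIso ((DerivedCategory.homologyFunctor (ModuleCat.{u} A) a).map (((DerivedCategory.TStructure.t (C := ModuleCat.{u} A)).truncLTι (a + 1)).app X)))
        (-a) (by omega)
      exact @Equiv.subsingleton _ _ (e.homFromEquiv.trans
        ((shiftEquiv' (Dual.D A) (-a) a (by omega)).toAdjunction.homEquiv _ Y)) (h a le_rfl)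
    refine subsingleton_of_forall_eq 0 fun f => ?_
    obtain ⟨g, hg⟩ := Triangle.yoneda_exact₂ _ hT f
      (show ((DerivedCategory.TStructure.t (C := ModuleCat.{u} A)).truncLTι (a + 1)).app X ≫ f = 0 from Subsingleton.elim (α := X₁ ⟶ Y) _ _)
    rw [hg, show g = 0 from Subsingleton.elim (α := X₃ ⟶ Y) _ _, comp_zero]

variable [IsNoetherianRing A]

/-- A strictly monotone function grows at least by the length along a chain. -/
theorem add_length_le {ν : PrimeSpectrum A → ℤ} (hν : StrictMono ν) (s : LTSeries (PrimeSpectrum A)) :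
    ν s.head + s.length ≤ ν s.last := by
  have h5 : ∀ k : ℕ, ∀ hk : k < s.length + 1, ν (s 0) + k ≤ ν (s ⟨k, hk⟩) := by
    intro k
    induction k with
    | zero => intro hk; simp
    | succ k ih =>
      intro hk
      have h6 := ih (by omega)
      have h7 := hν (s.step ⟨k, by omega⟩)
      simp only [Fin.castSucc_mk, Fin.succ_mk] at h7
      push_cast
      omega
  exact h5 s.length (by omega)

variable [IsLocalRing A] {ω : Dual.D A} (hω : Dual.IsDualizing A ω) (hn : Dual.IsNormalized A ω) (n : ℕ)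
  (hd : ringKrullDim A = n)

include hω hn hd

/-- With `S_k`, the cohomology above the bottom degree has small support. -/
theorem hom_vanishing (k : ℕ) (hk : 2 ≤ k) (hS : LocCoh.HasSk k A A) (i : ℤ) (hi : i ≠ -(n : ℤ)) (j : ℤ)
    (hj : j < i + k) : Subsingleton (Dual.inD A (Dual.HD A ω i) ⟶ ω⟦j⟧) := by
  obtain ⟨ν, hν, -, hmono, -, hdim⟩ := KFlatLib.exists_normalized_degree hω hn
  haveI := hω.finite_cohomology i
  refine KFlatLib.subsingleton_hom_module_of_lt hν _ j fun P hP => ?_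
  obtain ⟨ν', hν', hcov', -, -⟩ := KFlatLib.exists_extDegree hω
  have hsame : ν' = ν := funext fun p => (hν p (ν' p)).1 ((hν' p (ν' p)).2 rfl)
  rw [hsame] at hcov'
  have hlb : ∀ p, -(n : ℤ) ≤ ν p := fun p => by
    obtain ⟨e, he, he'⟩ := hdim p
    have h1 := ringKrullDim_quotient_le p.asIdeal
    rw [he, hd] at h1
    have : e ≤ n := Nat.cast_le.1 h1
    omega
  have hgt : -(n : ℤ) < i := by
    by_contra hc
    obtain ⟨e⟩ := KFlatLib.exists_homRingLEquiv ω i
    haveI := KFlatLib.subsingleton_hom_module_of_lt hν A i fun Q _ => by have := hlb Q; omega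
    haveI : Subsingleton (Dual.HD A ω i) := e.symm.subsingleton
    rw [Module.mem_support_iff] at hP
    exact not_subsingleton (LocalizedModule P.asIdeal.primeCompl (Dual.HD A ω i)) inferInstance
  obtain ⟨hsuppK, -⟩ := S0369.result A ω hω hn n hd
  have hS2 : LocCoh.HasSk 2 A A := fun p _ =>
    le_trans (min_le_min_right _ (Nat.cast_le.2 hk)) (hS p)
  -- some minimal prime has the bottom degree
  obtain ⟨q₀, hq₀, hq₀d⟩ : ∃ q ∈ minimalPrimes A, ringKrullDim (A ⧸ q) = n := by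
    haveI := H1SkDual.top_nontrivial hω hn A n (by rw [Module.supportDim_self_eq_ringKrullDim, hd])
    obtain ⟨e⟩ := KFlatLib.exists_homRingLEquiv ω (-(n : ℤ))
    haveI : Nontrivial (Dual.HD A ω (-(n : ℤ))) := e.symm.toEquiv.nontrivial
    obtain ⟨p, hp⟩ := (Module.nonempty_support_iff (R := A)).2 (inferInstance : Nontrivial (Dual.HD A ω (-(n : ℤ))))
    rw [hsuppK] at hp
    obtain ⟨q, hq, -, hqd⟩ := hp
    exact ⟨q, hq, hqd⟩
  have hPK : P ∈ Module.support A (Dual.HD A ω (-(n : ℤ))) := by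
    obtain ⟨q, hq, hqP⟩ := Ideal.exists_minimalPrimes_le (bot_le : (⊥ : Ideal A) ≤ P.asIdeal)
    rw [hsuppK]
    refine ⟨q, hq, hqP, ?_⟩
    have he := minimal_value_eq hS2 ν hcov' _ (IsLocalRing.closedPoint A) rfl ⟨q, hq.1.1⟩ ⟨q₀, hq₀.1.1⟩ hq hq₀
      (IsLocalRing.le_maximalIdeal hq.1.1.ne_top) (IsLocalRing.le_maximalIdeal hq₀.1.1.ne_top)
    obtain ⟨e, h1, h2⟩ := hdim ⟨q, hq.1.1⟩
    obtain ⟨e₀, h3, h4⟩ := hdim ⟨q₀, hq₀.1.1⟩
    have h5 : e₀ = n := Nat.cast_injective (R := WithBot ℕ∞) (h3.symm.trans hq₀d)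
    rw [h1, show e = n by omega]
  obtain ⟨ei⟩ := KFlatLib.exists_homRingLEquiv ω i
  obtain ⟨en⟩ := KFlatLib.exists_homRingLEquiv ω (-(n : ℤ))
  have hmain := (H1SkDual.hasSk_iff ω hω A k (by omega)).1 hS i (-(n : ℤ)) hgt P
    (by rw [ei.support_eq]; exact hP) (by rw [en.support_eq]; exact hPK)
  rw [Module.supportDim_eq_of_equiv (LC.selfLoc P.asIdeal.primeCompl), Module.supportDim_self_eq_ringKrullDim,
    IsLocalization.AtPrime.ringKrullDim_eq_height P.asIdeal, PrimeSpectrum.height_eq_orderHeight] at hmain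
  obtain ⟨s, hs, hlen⟩ := Order.exists_series_of_le_height P (n := ((k : ℤ) + i - -(n : ℤ)).toNat)
    (WithBot.coe_le_coe.1 hmain)
  have h1 := add_length_le hmono s
  have h2 := hlb s.head
  have h3 : ν s.last = ν P := congrArg ν hs
  omega

/-- The dualizing module is simple under `S₂` and rigid under `S₃`. -/
theorem end_bijective_and_rigid :
    (LocCoh.HasSk 2 A A →
      Function.Bijective (fun r : A => r • (LinearMap.id : Dual.HD A ω (-(n : ℤ)) →ₗ[A] Dual.HD A ω (-(n : ℤ))))) ∧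
    (LocCoh.HasSk 3 A A →
      Subsingleton (Dual.inD A (Dual.HD A ω (-(n : ℤ))) ⟶ (Dual.inD A (Dual.HD A ω (-(n : ℤ))))⟦(1 : ℤ)⟧)) := by
  obtain ⟨ν, hν, -, -, -, hdim⟩ := KFlatLib.exists_normalized_degree hω hn
  have hlb : ∀ p, -(n : ℤ) ≤ ν p := fun p => by
    obtain ⟨e, he, he'⟩ := hdim p
    have h1 := ringKrullDim_quotient_le p.asIdeal
    rw [he, hd] at h1
    have : e ≤ n := Nat.cast_le.1 h1
    omega
  haveI hGE : ω.IsGE (-(n : ℤ)) := by
    rw [DerivedCategory.isGE_iff]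
    intro i hi
    obtain ⟨e⟩ := KFlatLib.exists_homRingLEquiv ω i
    haveI := KFlatLib.subsingleton_hom_module_of_lt hν A i fun Q _ => by have := hlb Q; omega
    haveI : Subsingleton (Dual.HD A ω i) := e.symm.subsingleton
    exact ModuleCat.isZero_of_iff_subsingleton.2 this
  obtain ⟨a, b, -, -, hLE⟩ := KFlatLib.exists_bounds_of_isDualizing hω
  let c : ℤ := -(n : ℤ) + 1
  have hT := (DerivedCategory.TStructure.t (C := ModuleCat.{u} A)).triangleLTGE_distinguished c ω
  let X₁ := ((DerivedCategory.TStructure.t (C := ModuleCat.{u} A)).truncLT c).obj ω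
  let X₃ := ((DerivedCategory.TStructure.t (C := ModuleCat.{u} A)).truncGE c).obj ω
  haveI : X₁.IsLE (-(n : ℤ)) := (DerivedCategory.TStructure.t (C := ModuleCat.{u} A)).isLE_truncLT_obj _ _ _ (by omega)
  haveI : X₁.IsGE (-(n : ℤ)) := by
    rw [DerivedCategory.isGE_iff]
    intro k hk
    haveI := H9Misc.isIso_map_truncLTι c k (by omega) ω
    exact (DerivedCategory.isZero_of_isGE ω (-(n : ℤ)) k hk).of_iso (asIso ((DerivedCategory.homologyFunctor (ModuleCat.{u} A) k).map (((DerivedCategory.TStructure.t (C := ModuleCat.{u} A)).truncLTι c).app ω)))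
  haveI : X₃.IsGE c := (DerivedCategory.TStructure.t (C := ModuleCat.{u} A)).isGE_truncGE_obj ..
  -- the truncation has no maps to small shifts of `ω`
  have hvan : ∀ (k : ℕ), 2 ≤ k → LocCoh.HasSk k A A → ∀ l : ℤ, l < k → Subsingleton (X₃ ⟶ ω⟦l⟧) := by
    intro k hk hS l hl
    let m : ℕ := (b - c + 1).toNat
    have hL₃ : X₃.IsLE (c + m - 1) := by
      rw [DerivedCategory.isLE_iff]
      intro i hi
      haveI := H9Misc.isIso_map_truncGEπ c i (by omega) ω
      exact (DerivedCategory.isZero_of_isLE ω b i (by omega)).of_iso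
        (asIso ((DerivedCategory.homologyFunctor (ModuleCat.{u} A) i).map (((DerivedCategory.TStructure.t (C := ModuleCat.{u} A)).truncGEπ c).app ω))).symm
    refine subsingleton_hom_of_cohomology (ω⟦l⟧) m X₃ c inferInstance hL₃ fun i hi => ?_
    haveI := H9Misc.isIso_map_truncGEπ c i hi ω
    exact @Equiv.subsingleton _ _ ((((DerivedCategory.singleFunctor (ModuleCat.{u} A) 0).mapIso
      (asIso ((DerivedCategory.homologyFunctor (ModuleCat.{u} A) i).map (((DerivedCategory.TStructure.t (C := ModuleCat.{u} A)).truncGEπ c).app ω))).symm).homCongr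
        ((shiftFunctorAdd' (Dual.D A) l i (l + i) rfl).app ω).symm))
      (hom_vanishing hω hn n hd k hk hS i (by omega) (l + i) (by omega))
  haveI hz : Subsingleton (X₁ ⟶ X₃⟦(-1 : ℤ)⟧) := by
    haveI : DerivedCategory.IsGE (X₃⟦(-1 : ℤ)⟧) (c + 1) :=
      (DerivedCategory.TStructure.t (C := ModuleCat.{u} A)).isGE_shift X₃ c (-1) (c + 1) (by omega)
    exact subsingleton_of_forall_eq 0 fun f => (DerivedCategory.TStructure.t (C := ModuleCat.{u} A)).zero f (-(n : ℤ)) (c + 1) (by omega)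
  let ι : X₁ ⟶ ω := ((DerivedCategory.TStructure.t (C := ModuleCat.{u} A)).truncLTι c).app ω
  let π : ω ⟶ X₃ := ((DerivedCategory.TStructure.t (C := ModuleCat.{u} A)).truncGEπ c).app ω
  let δ : X₃⟦(-1 : ℤ)⟧ ⟶ X₁ := (((DerivedCategory.TStructure.t (C := ModuleCat.{u} A)).triangleLTGE c).obj ω).invRotate.mor₁
  have hT' := inv_rot_of_distTriang _ hT
  haveI := H9Misc.isIso_map_truncLTι c (-(n : ℤ)) (by omega) ω
  obtain ⟨e⟩ := exists_iso_shift_inD X₁ (-(n : ℤ)) (ModuleCat.of A (Dual.HD A ω (-(n : ℤ))))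
    (asIso ((DerivedCategory.homologyFunctor (ModuleCat.{u} A) (-(n : ℤ))).map ι)) (n : ℤ) (by omega)
  refine ⟨fun hS => ?_, fun hS => ?_⟩
  · haveI h0 : Subsingleton (X₃ ⟶ ω⟦(0 : ℤ)⟧) := hvan 2 le_rfl hS 0 (by norm_num)
    haveI h1 : Subsingleton (X₃ ⟶ ω⟦(1 : ℤ)⟧) := hvan 2 le_rfl hS 1 (by norm_num)
    haveI h0' : Subsingleton (X₃ ⟶ ω) :=
      (((shiftFunctorZero (Dual.D A) ℤ).app ω).symm.homToEquiv (Z := X₃)).subsingleton
    haveI h1' : Subsingleton (X₃⟦(-1 : ℤ)⟧ ⟶ ω) :=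
      @Equiv.subsingleton _ _ ((shiftEquiv' (Dual.D A) (-1 : ℤ) 1 (by omega)).toAdjunction.homEquiv X₃ ω) h1
    let K := Dual.HD A ω (-(n : ℤ))
    let S0 := DerivedCategory.singleFunctor (ModuleCat.{u} A) 0
    -- linear maps on `K` versus maps on the bottom truncation
    let Φ : (K →ₗ[A] K) → (X₁ ⟶ X₁) := fun φ =>
      e.hom ≫ (S0.map (ModuleCat.ofHom φ))⟦(n : ℤ)⟧' ≫ e.inv
    have hΦinj : Function.Injective Φ := fun φ ψ h => by
      have h2 := (cancel_epi e.hom).1 h
      have h3 := S0.map_injective ((shiftFunctor (Dual.D A) (n : ℤ)).map_injective ((cancel_mono e.inv).1 h2))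
      exact congrArg ModuleCat.Hom.hom h3
    have hΦsmul : ∀ r : A, Φ (r • LinearMap.id) = r • 𝟙 X₁ := fun r => by
      show e.hom ≫ (S0.map (r • 𝟙 (ModuleCat.of A K)))⟦(n : ℤ)⟧' ≫ e.inv = r • 𝟙 X₁
      rw [Functor.map_smul, CategoryTheory.Functor.map_id, Functor.map_smul, CategoryTheory.Functor.map_id,
        Linear.smul_comp, Category.id_comp, Linear.comp_smul, e.hom_inv_id]
    refine ⟨fun r s hrs => ?_, fun φ => ?_⟩
    · have h2 : r • 𝟙 X₁ = s • 𝟙 X₁ := by rw [← hΦsmul, ← hΦsmul]; exact congrArg Φ hrs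
      have h3 : ι ≫ (r • 𝟙 ω - s • 𝟙 ω) = 0 := by
        have h4 := congrArg (fun f => f ≫ ι) h2
        simp only [Linear.smul_comp, Category.id_comp] at h4
        rw [Preadditive.comp_sub, Linear.comp_smul, Linear.comp_smul, Category.comp_id, h4, sub_self]
      obtain ⟨g, hg⟩ := Triangle.yoneda_exact₂ _ hT _ h3
      rw [show g = 0 from Subsingleton.elim (α := X₃ ⟶ ω) _ _, comp_zero, sub_eq_zero] at hg
      exact hω.toEnd_bijective.1 hg
    · obtain ⟨g, hg⟩ := Triangle.yoneda_exact₂ _ hT' (Φ φ ≫ ι)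
        (show δ ≫ (Φ φ ≫ ι) = 0 from Subsingleton.elim (α := X₃⟦(-1 : ℤ)⟧ ⟶ ω) _ _)
      obtain ⟨r, hr⟩ := hω.toEnd_bijective.2 g
      refine ⟨r, hΦinj ?_⟩
      rw [hΦsmul]
      have h5 : (r • 𝟙 X₁ - Φ φ) ≫ ι = 0 := by
        rw [Preadditive.sub_comp, sub_eq_zero, Linear.smul_comp, Category.id_comp]
        refine Eq.trans ?_ hg.symm
        show r • ι = ι ≫ g
        rw [← hr, Linear.comp_smul, Category.comp_id]
      obtain ⟨g', hg'⟩ := Triangle.coyoneda_exact₂ _ hT' _ h5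
      rw [show g' = 0 from Subsingleton.elim (α := X₁ ⟶ X₃⟦(-1 : ℤ)⟧) _ _, zero_comp, sub_eq_zero] at hg'
      exact hg'
  · haveI h2 : Subsingleton (X₃ ⟶ ω⟦(2 : ℤ)⟧) := hvan 3 (by norm_num) hS 2 (by norm_num)
    haveI h2' : Subsingleton (X₃⟦(-1 : ℤ)⟧ ⟶ ω⟦(1 : ℤ)⟧) :=
      @Equiv.subsingleton _ _ (((shiftEquiv' (Dual.D A) (-1 : ℤ) 1 (by omega)).toAdjunction.homEquiv X₃ (ω⟦(1 : ℤ)⟧)).trans
        (((shiftFunctorAdd' (Dual.D A) (1 : ℤ) 1 2 (by norm_num)).app ω).symm.homToEquiv (Z := X₃))) h2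
    haveI hωω := hω.ext_self_subsingleton 1 one_ne_zero
    haveI hkey : Subsingleton (X₁ ⟶ X₁⟦(1 : ℤ)⟧) := by
      refine subsingleton_of_forall_eq 0 fun f => ?_
      obtain ⟨g, hg⟩ := Triangle.yoneda_exact₂ _ hT' (f ≫ ι⟦(1 : ℤ)⟧')
        (show δ ≫ (f ≫ ι⟦(1 : ℤ)⟧') = 0 from Subsingleton.elim (α := X₃⟦(-1 : ℤ)⟧ ⟶ ω⟦(1 : ℤ)⟧) _ _)
      rw [show g = 0 from Subsingleton.elim (α := ω ⟶ ω⟦(1 : ℤ)⟧) _ _, comp_zero] at hg
      obtain ⟨g', hg'⟩ := Triangle.coyoneda_exact₁ _ hT f hg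
      rw [show g' = 0 from (DerivedCategory.TStructure.t (C := ModuleCat.{u} A)).zero g' (-(n : ℤ)) c (by omega), zero_comp] at hg'
      exact hg'
    let F := shiftFunctor (Dual.D A) (n : ℤ)
    let K0 := Dual.inD A (Dual.HD A ω (-(n : ℤ)))
    haveI : Subsingleton (F.obj K0 ⟶ (F.obj K0)⟦(1 : ℤ)⟧) :=
      (e.symm.homCongr ((shiftFunctor (Dual.D A) (1 : ℤ)).mapIso e).symm).subsingleton
    exact subsingleton_of_forall_eq 0 fun f => F.map_injective (by
        rw [← cancel_mono ((shiftFunctorComm (Dual.D A) (1 : ℤ) (n : ℤ)).app K0).hom]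
        exact Subsingleton.elim (α := F.obj K0 ⟶ (F.obj K0)⟦(1 : ℤ)⟧) _ _)

end Groth.Agent.H1OrdDual
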