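import Groth.Agent.LC.PuncturedConn
import Groth.Agent.H1OrdDual.Basic

/-!
# An `S₂` ring with a codimension function is equidimensional
-/

set_option autoImplicit false
set_option linter.unusedSectionVars false

universe u

namespace Groth.Agent.H1OrdDual

open IsLocalRing

/-- With `S₂`, the codimension function is constant on the minimal primes below a prime. -/
theorem minimal_value_eq {A : Type u} [CommRing A] [IsNoetherianRing A] (hS : LocCoh.HasSk 2 A A)
    (ν : PrimeSpectrum A → ℤ) (hcov : ∀ p q : PrimeSpectrum A, p ⋖ q → ν q = ν p + 1) :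
    ∀ (h : ℕ∞) (p : PrimeSpectrum A), p.asIdeal.height = h → ∀ q q' : PrimeSpectrum A,
      q.asIdeal ∈ minimalPrimes A → q'.asIdeal ∈ minimalPrimes A → q ≤ p → q' ≤ p → ν q = ν q' := by
  intro h
  induction h using WellFoundedLT.induction with
  | _ h ih =>
    intro p hp q q' hq hq' hqp hq'p
    have hlt : ∀ {q : PrimeSpectrum A}, q.asIdeal ∈ minimalPrimes A → q ≤ p →
        p.asIdeal ∉ minimalPrimes A → q < p := fun hq hle hnp =>
      lt_of_le_of_ne hle fun he => hnp (he ▸ hq)
    by_cases hpm : p.asIdeal ∈ minimalPrimes A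
    · have e1 : p.asIdeal = q.asIdeal := le_antisymm (hpm.2 hq.1 hqp) hqp
      have e2 : p.asIdeal = q'.asIdeal := le_antisymm (hpm.2 hq'.1 hq'p) hq'p
      rw [PrimeSpectrum.ext (e1.symm.trans e2)]
    by_cases h2 : (2 : ℕ∞) ≤ p.asIdeal.height
    swap
    · have hcb : ∀ {q : PrimeSpectrum A}, q.asIdeal ∈ minimalPrimes A → q ≤ p → q ⋖ p := fun {q} hq hle => by
        refine ⟨hlt hq hle hpm, fun r h1 h3 => h2 ?_⟩
        have a1 := Ideal.height_strict_mono_of_isPrime (I := q.asIdeal) (J := r.asIdeal) h1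
        have a2 := Ideal.height_strict_mono_of_isPrime (I := r.asIdeal) (J := p.asIdeal) h3
        have b1 := Order.add_one_le_of_lt a1
        have b2 := Order.add_one_le_of_lt a2
        rw [Ideal.height_eq_zero_iff.2 hq, zero_add] at b1
        calc (2 : ℕ∞) = 1 + 1 := (one_add_one_eq_two).symm
          _ ≤ r.asIdeal.height + 1 := add_le_add_left b1 1
          _ ≤ p.asIdeal.height := b2
      have := hcov q p (hcb hq hqp)
      have := hcov q' p (hcb hq' hq'p)
      omega
    let B := Localization.AtPrime p.asIdeal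
    have hd : (2 : ℕ∞) ≤ LocCoh.depth B B := by
      haveI : Module.Finite B (LocalizedModule p.asIdeal.primeCompl A) :=
        Module.Finite.of_isLocalizedModule p.asIdeal.primeCompl (LocalizedModule.mkLinearMap _ A)
      have h1 := hS p.asIdeal
      rw [Module.supportDim_eq_of_equiv (LC.selfLoc p.asIdeal.primeCompl), Module.supportDim_self_eq_ringKrullDim,
        IsLocalization.AtPrime.ringKrullDim_eq_height p.asIdeal] at h1
      unfold LocCoh.depth at h1 ⊢
      rw [LC.idealDepth_congr _ (LC.selfLoc p.asIdeal.primeCompl)] at h1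
      exact WithBot.coe_le_coe.1 (le_trans (le_min le_rfl (WithBot.coe_le_coe.2 h2)) h1)
    obtain ⟨-, hconn⟩ := LC.isConnected_punctured hd
    let c := PrimeSpectrum.comap (algebraMap A B)
    let W : (ℤ → Prop) → Set (PrimeSpectrum B) := fun P =>
      {x | ∃ t : PrimeSpectrum A, t.asIdeal ∈ minimalPrimes A ∧ P (ν t) ∧ t ≤ c x}
    have hW : ∀ P, IsClosed (W P) := fun P => by
      have hfin : {t : PrimeSpectrum A | t.asIdeal ∈ minimalPrimes A ∧ P (ν t)}.Finite :=
        ((minimalPrimes.finite_of_isNoetherianRing A).preimage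
          (fun a _ b _ he => PrimeSpectrum.ext he)).subset fun t ht => ht.1
      have he : W P = ⋃ t ∈ {t : PrimeSpectrum A | t.asIdeal ∈ minimalPrimes A ∧ P (ν t)},
          c ⁻¹' PrimeSpectrum.zeroLocus (t.asIdeal : Set A) := by
        ext x
        simp only [W, Set.mem_setOf_eq, Set.mem_iUnion, Set.mem_preimage]
        exact ⟨fun ⟨t, a, b, d⟩ => ⟨t, ⟨a, b⟩, d⟩, fun ⟨t, ⟨a, b⟩, d⟩ => ⟨t, a, b, d⟩⟩
      rw [he]
      exact hfin.isClosed_biUnion fun t _ =>
        (PrimeSpectrum.isClosed_zeroLocus _).preimage (PrimeSpectrum.continuous_comap _)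
    have hlift : ∀ t : PrimeSpectrum A, t < p →
        ∃ x : PrimeSpectrum B, x.asIdeal ≠ maximalIdeal B ∧ c x = t := fun t ht => by
      have hdisj : Disjoint (p.asIdeal.primeCompl : Set A) (t.asIdeal : Set A) :=
        Set.disjoint_left.2 fun a ha hat => ha (ht.le hat)
      have hcm := IsLocalization.comap_map_of_isPrime_disjoint p.asIdeal.primeCompl B t.isPrime hdisj
      refine ⟨⟨t.asIdeal.map (algebraMap A B),
        IsLocalization.isPrime_of_isPrime_disjoint p.asIdeal.primeCompl B _ t.isPrime hdisj⟩,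
        fun he => ?_, PrimeSpectrum.ext hcm⟩
      have hh : t.asIdeal = p.asIdeal := by
        rw [← hcm, show t.asIdeal.map (algebraMap A B) = maximalIdeal B from he,
          IsLocalization.AtPrime.comap_maximalIdeal B p.asIdeal]
      exact ht.ne (PrimeSpectrum.ext hh)
    by_contra hne
    obtain ⟨x, hx1, hx2⟩ := hlift q (hlt hq hqp hpm)
    obtain ⟨y, hy1, hy2⟩ := hlift q' (hlt hq' hq'p hpm)
    obtain ⟨z, hz, ⟨t, ht, htv, htz⟩, ⟨s, hs, hsv, hsz⟩⟩ := (isPreconnected_closed_iff.1 hconn)
      (W (fun v => v = ν q)) (W (fun v => v ≠ ν q)) (hW (fun v => v = ν q)) (hW (fun v => v ≠ ν q))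
      (fun w _ => by
        obtain ⟨t, ht, htw⟩ := Ideal.exists_minimalPrimes_le (bot_le : (⊥ : Ideal A) ≤ (c w).asIdeal)
        by_cases hv : ν ⟨t, ht.1.1⟩ = ν q
        · exact Or.inl ⟨⟨t, ht.1.1⟩, ht, hv, htw⟩
        · exact Or.inr ⟨⟨t, ht.1.1⟩, ht, hv, htw⟩)
      ⟨x, hx1, q, hq, rfl, hx2.ge⟩ ⟨y, hy1, q', hq', Ne.symm hne, hy2.ge⟩
    have hzp : c z < p := by
      refine lt_of_le_of_ne ?_ fun he => hz ?_
      · exact (Ideal.comap_mono (IsLocalRing.le_maximalIdeal z.isPrime.ne_top)).trans_eq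
          (IsLocalization.AtPrime.comap_maximalIdeal B p.asIdeal)
      · rw [← IsLocalization.map_comap p.asIdeal.primeCompl B z.asIdeal,
          show Ideal.under A z.asIdeal = p.asIdeal from congrArg PrimeSpectrum.asIdeal he]
        exact Localization.AtPrime.map_eq_maximalIdeal
    refine hsv ((ih _ ?_ (c z) rfl s t hs ht hsz htz).trans htv)
    exact hp ▸ Ideal.height_strict_mono_of_isPrime (I := (c z).asIdeal) (J := p.asIdeal) hzp

end Groth.Agent.H1OrdDual
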